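import Mathlib

set_option backward.isDefEq.respectTransparency false
set_option backward.isDefEq.respectTransparency.types false
set_option linter.style.haveILetI false
set_option linter.unusedSectionVars false
set_option autoImplicit false

universe v u

open CategoryTheory Category Limits Opposite Simplicial AlgebraicTopology AlgebraicTopology.DoldKan

namespace Groth.Agent.SimpSk

variable {A : Type u} [Category.{v} A] [Abelian A]

theorem arrow_comp_PInfty (X : SimplicialObject A) (n : ℕ) :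
    (NormalizedMooreComplex.objX X n).arrow ≫ PInfty.f n = (NormalizedMooreComplex.objX X n).arrow :=
  HomologicalComplex.congr_hom (inclusionOfMooreComplexMap_comp_PInfty X) n

theorem map_comp_PInfty (X : SimplicialObject A) {n i : ℕ} (h : i < n) (θ : ⦋n⦌ ⟶ ⦋i⦌) :
    X.map θ.op ≫ PInfty.f n = 0 :=
  degeneracy_comp_PInfty X n θ fun hm => by
    have := @SimplexCategory.len_le_of_mono ⦋n⦌ ⦋i⦌ θ hm
    exact absurd this (Nat.not_le.2 h)

theorem inf_objX_eq_bot (X : SimplicialObject A) (n : ℕ) (S : Subobject (X.obj (op ⦋n⦌)))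
    (hS : S.arrow ≫ PInfty.f n = 0) : S ⊓ NormalizedMooreComplex.objX X n = ⊥ := by
  let T := S ⊓ NormalizedMooreComplex.objX X n
  have h1 : T ≤ S := inf_le_left
  have h2 : T ≤ NormalizedMooreComplex.objX X n := inf_le_right
  have h : T.arrow ≫ PInfty.f n = T.arrow := by
    rw [← Subobject.ofLE_arrow h2, Category.assoc, arrow_comp_PInfty]
  have : T.arrow = 0 := by rw [← h, ← Subobject.ofLE_arrow h1, Category.assoc, hS, comp_zero]
  change T = ⊥
  rw [← Subobject.mk_arrow T]
  exact (Subobject.mk_eq_bot_iff_zero).2 this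

/-- The presheaf of `Z`-valued functions on maps out of `⦋n⦌`. -/
noncomputable def coind (n : ℕ) (Z : A) : SimplicialObject A where
  obj X := ∏ᶜ fun _ : (⦋n⦌ ⟶ X.unop) => Z
  map f := Pi.lift fun θ => Pi.π _ (θ ≫ f.unop)
  map_id X := Pi.hom_ext _ _ fun θ => by simp
  map_comp f g := Pi.hom_ext _ _ fun θ => by simp

noncomputable def toCoind {S : SimplicialObject A} (n : ℕ) {Z : A} (g : S.obj (op ⦋n⦌) ⟶ Z) : S ⟶ coind n Z where
  app X := Pi.lift fun θ => S.map θ.op ≫ g
  naturality X Y f := Pi.hom_ext _ _ fun θ => by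
    simp only [coind, Category.assoc, Pi.lift_π]
    rw [op_comp, Functor.map_comp, Category.assoc]
    rfl

section sk

variable (m : ℕ) [∀ F : (SimplexCategory.Truncated m)ᵒᵖ ⥤ A, (SimplexCategory.Truncated.inclusion m).op.HasLeftKanExtension F]
  (U : SimplicialObject.Truncated A m)

/-- The legs of the skeleton. -/
noncomputable def leg (n : ℕ) (i : SimplexCategory.Truncated m) (θ : ⦋n⦌ ⟶ i.obj) :
    U.obj (op i) ⟶ ((SimplicialObject.Truncated.sk m).obj U).obj (op ⦋n⦌) :=
  ((SimplicialObject.skAdj m).unit.app U).app (op i) ≫ ((SimplicialObject.Truncated.sk m).obj U).map θ.op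

theorem sk_hom_ext (n : ℕ) {Z : A} (g h : ((SimplicialObject.Truncated.sk m).obj U).obj (op ⦋n⦌) ⟶ Z)
    (hgh : ∀ (i : SimplexCategory.Truncated m) (θ : ⦋n⦌ ⟶ i.obj), leg m U n i θ ≫ g = leg m U n i θ ≫ h) : g = h := by
  have key : toCoind n g = toCoind n h := by
    apply ((SimplicialObject.skAdj m).homEquiv _ _).injective
    rw [Adjunction.homEquiv_unit, Adjunction.homEquiv_unit]
    refine NatTrans.ext (funext fun i => Pi.hom_ext _ _ fun θ => ?_)
    change (((SimplicialObject.skAdj m).unit.app U).app i ≫ Pi.lift _) ≫ Pi.π _ θ =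
      (((SimplicialObject.skAdj m).unit.app U).app i ≫ Pi.lift _) ≫ Pi.π _ θ
    rw [Category.assoc, Category.assoc, Pi.lift_π, Pi.lift_π, ← Category.assoc, ← Category.assoc]
    exact hgh i.unop θ
  have := congrArg (fun α : (SimplicialObject.Truncated.sk m).obj U ⟶ coind n Z => α.app (op ⦋n⦌) ≫ Pi.π _ (𝟙 ⦋n⦌)) key
  simpa [toCoind] using this

theorem sk_objX_eq_bot (n : ℕ) (hn : m < n) :
    NormalizedMooreComplex.objX ((SimplicialObject.Truncated.sk m).obj U) n = ⊥ := by
  let X := (SimplicialObject.Truncated.sk m).obj U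
  have h : (PInfty.f n : X.obj (op ⦋n⦌) ⟶ X.obj (op ⦋n⦌)) = 0 := by
    refine sk_hom_ext m U n _ _ fun i θ => ?_
    rw [comp_zero, leg, Category.assoc]
    exact (congrArg _ (map_comp_PInfty X (i := i.obj.len) (lt_of_le_of_lt i.property hn) θ)).trans comp_zero
  have h' := inf_objX_eq_bot X n (NormalizedMooreComplex.objX X n) (by rw [h, comp_zero])
  rwa [inf_idem] at h'

end sk

section gen

variable (U : SimplicialObject A) (n : ℕ) (U' : ∀ m : ℕ, Subobject (U.obj (op ⦋m⦌)))
  (hU' : ∀ m : ℕ, IsLUB (Set.range (fun φ : Σ i : Fin (n + 1), (⦋m⦌ ⟶ ⦋(i : ℕ)⦌) => imageSubobject (U.map φ.2.op))) (U' m))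
include hU'

theorem le_kernel (m : ℕ) {Z : A} (g : U.obj (op ⦋m⦌) ⟶ Z)
    (h : ∀ (i : ℕ), i ≤ n → ∀ φ : ⦋m⦌ ⟶ ⦋i⦌, U.map φ.op ≫ g = 0) : U' m ≤ kernelSubobject g := by
  refine (isLUB_le_iff (hU' m)).2 ?_
  rintro _ ⟨⟨i, φ⟩, rfl⟩
  exact imageSubobject_le _ (factorThruKernelSubobject g _ (h i (Nat.le_of_lt_succ i.isLt) φ))
    (factorThruKernelSubobject_comp_arrow _ _ _)

theorem arrow_comp_eq_zero (m : ℕ) {Z : A} (g : U.obj (op ⦋m⦌) ⟶ Z)
    (h : ∀ (i : ℕ), i ≤ n → ∀ φ : ⦋m⦌ ⟶ ⦋i⦌, U.map φ.op ≫ g = 0) : (U' m).arrow ≫ g = 0 := by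
  rw [← Subobject.ofLE_arrow (le_kernel U n U' hU' m g h), Category.assoc, kernelSubobject_arrow_comp, comp_zero]

theorem gen_factors (m i : ℕ) (hi : i ≤ n) (φ : ⦋m⦌ ⟶ ⦋i⦌) : (U' m).Factors (U.map φ.op) :=
  Subobject.factors_of_le _ ((hU' m).1 ⟨⟨⟨i, Nat.lt_succ_of_le hi⟩, φ⟩, rfl⟩)
    ((Subobject.factors_iff _ _).2 ⟨factorThruImageSubobject _, imageSubobject_arrow_comp _⟩)

theorem map_arrow_le (m m' : ℕ) (ψ : ⦋m'⦌ ⟶ ⦋m⦌) : imageSubobject ((U' m).arrow ≫ U.map ψ.op) ≤ U' m' := by
  have h0 : (U' m).arrow ≫ U.map ψ.op ≫ cokernel.π (U' m').arrow = 0 := by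
    refine arrow_comp_eq_zero U n U' hU' m _ fun i hi φ => ?_
    rw [← Category.assoc, ← Functor.map_comp, ← op_comp,
      ← Subobject.factorThru_arrow _ _ (gen_factors U n U' hU' m' i hi (ψ ≫ φ)), Category.assoc, cokernel.condition, comp_zero]
  refine imageSubobject_le _ (Abelian.monoLift (U' m').arrow ((U' m).arrow ≫ U.map ψ.op) (by rw [Category.assoc]; exact h0)) ?_
  exact Abelian.monoLift_comp _ _ _

theorem eq_top (i : ℕ) (hi : i ≤ n) : U' i = ⊤ := by
  refine top_le_iff.1 ?_
  have h := gen_factors U n U' hU' i i hi (𝟙 _)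
  rw [op_id, CategoryTheory.Functor.map_id] at h
  rw [Subobject.top_eq_id]
  exact Subobject.mk_le_of_comm _ (Subobject.factorThru_arrow _ _ h)

theorem inf_eq_bot (m : ℕ) (hm : n < m) : U' m ⊓ NormalizedMooreComplex.objX U m = ⊥ :=
  inf_objX_eq_bot U m (U' m)
    (arrow_comp_eq_zero U n U' hU' m _ fun i hi φ => map_comp_PInfty U (lt_of_le_of_lt hi hm) φ)

variable [∀ F : (SimplexCategory.Truncated n)ᵒᵖ ⥤ A, (SimplexCategory.Truncated.inclusion n).op.HasLeftKanExtension F]

omit hU' in
theorem unit_counit (i : SimplexCategory.Truncated n) :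
    ((SimplicialObject.skAdj n).unit.app ((SimplicialObject.truncation n).obj U)).app (op i) ≫
      ((SimplicialObject.skAdj n).counit.app U).app (op i.obj) = 𝟙 _ :=
  congrArg (fun α : (SimplicialObject.truncation n).obj U ⟶ (SimplicialObject.truncation n).obj U => α.app (op i))
    ((SimplicialObject.skAdj n).right_triangle_components U)

omit hU' in
theorem leg_counit (m : ℕ) (i : SimplexCategory.Truncated n) (θ : ⦋m⦌ ⟶ i.obj) :
    leg n ((SimplicialObject.truncation n).obj U) m i θ ≫ ((SimplicialObject.skAdj n).counit.app U).app (op ⦋m⦌) =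
      U.map θ.op := by
  rw [leg, Category.assoc]
  erw [((SimplicialObject.skAdj n).counit.app U).naturality θ.op]
  erw [reassoc_of% (unit_counit U n i)]
  rfl

omit hU' in
theorem mono_counit (m : ℕ) : Mono (((SimplicialObject.skAdj n).counit.app U).app (op ⦋m⦌)) := by
  induction m using Nat.strong_induction_on with
  | h m ih =>
    by_cases hm : m ≤ n
    · let i : SimplexCategory.Truncated n := ⟨⦋m⦌, hm⟩
      have h := unit_counit U n i
      have h' : ((SimplicialObject.skAdj n).counit.app U).app (op i.obj) ≫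
          ((SimplicialObject.skAdj n).unit.app ((SimplicialObject.truncation n).obj U)).app (op i) = 𝟙 _ := by
        refine sk_hom_ext n ((SimplicialObject.truncation n).obj U) m _ _ fun j θ => ?_
        rw [← Category.assoc]
        erw [leg_counit U n m j θ, Category.comp_id]
        exact ((SimplicialObject.skAdj n).unit.app ((SimplicialObject.truncation n).obj U)).naturality
          (ObjectProperty.homMk θ : i ⟶ j).op
      haveI : IsIso (((SimplicialObject.skAdj n).counit.app U).app (op i.obj)) :=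
        ⟨_, h', h⟩
      change Mono (((SimplicialObject.skAdj n).counit.app U).app (op i.obj))
      infer_instance
    · obtain ⟨k, rfl⟩ : ∃ k, m = k + 1 := ⟨m - 1, by omega⟩
      let ε := (SimplicialObject.skAdj n).counit.app U
      let X := (SimplicialObject.Truncated.sk n).obj ((SimplicialObject.truncation n).obj U)
      haveI := ih k (Nat.lt_succ_self k)
      refine Preadditive.mono_of_cancel_zero _ fun {Z} g hg => ?_
      have hf : (NormalizedMooreComplex.objX X (k + 1)).Factors g := by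
        rw [NormalizedMooreComplex.objX_add_one]
        refine (Subobject.finset_inf_factors _).2 fun j _ => kernelSubobject_factors _ _ ?_
        rw [← cancel_mono (ε.app (op ⦋k⦌)), zero_comp, Category.assoc]
        have hn : X.δ j.succ ≫ ε.app (op ⦋k⦌) = ε.app (op ⦋k + 1⦌) ≫ U.δ j.succ :=
          ε.naturality (SimplexCategory.δ j.succ).op
        exact (congrArg (fun t => g ≫ t) hn).trans ((Category.assoc _ _ _).symm.trans
          ((congrArg (fun t => t ≫ U.δ j.succ) hg).trans zero_comp))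
      rw [sk_objX_eq_bot n _ (k + 1) (by omega)] at hf
      exact (Subobject.bot_factors_iff_zero _).1 hf

theorem image_counit (m : ℕ) :
    imageSubobject (((SimplicialObject.skAdj n).counit.app U).app (op ⦋m⦌)) = U' m := by
  let ε := ((SimplicialObject.skAdj n).counit.app U).app (op ⦋m⦌)
  refine le_antisymm ?_ ((isLUB_le_iff (hU' m)).2 ?_)
  · have h0 : ε ≫ cokernel.π (U' m).arrow = 0 := by
      refine sk_hom_ext n ((SimplicialObject.truncation n).obj U) m _ _ fun i θ => ?_
      rw [comp_zero, ← Category.assoc]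
      erw [leg_counit U n m i θ]
      rw [← Subobject.factorThru_arrow _ _ (gen_factors U n U' hU' m i.obj.len i.property θ)]
      erw [Category.assoc, cokernel.condition, comp_zero]
    exact imageSubobject_le _ (Abelian.monoLift (U' m).arrow ε h0) (Abelian.monoLift_comp _ _ _)
  · rintro _ ⟨⟨i, φ⟩, rfl⟩
    refine imageSubobject_le _ (leg n ((SimplicialObject.truncation n).obj U) m ⟨⦋(i : ℕ)⦌, Nat.le_of_lt_succ i.isLt⟩ φ ≫
      factorThruImageSubobject ε) ?_
    rw [Category.assoc, imageSubobject_arrow_comp]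
    exact leg_counit U n m ⟨⦋(i : ℕ)⦌, Nat.le_of_lt_succ i.isLt⟩ φ

end gen

end Groth.Agent.SimpSk
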